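import Mathlib
import Groth.Prelude.Def_Fitting
import Groth.Agent.GrpdLib.InvariantAffine

/-!
# Quasi-affineness descends along finite morphisms with a norm
-/

set_option autoImplicit false
set_option backward.isDefEq.respectTransparency.types false

universe u

open CategoryTheory AlgebraicGeometry TopologicalSpace Opposite

namespace Groth.Agent.SDiv28.Norm

/-- Finitely many points of an open of a quasi-affine scheme lie in a basic open inside it. -/
theorem exists_basicOpen_of_finite {X : Scheme.{u}} [X.IsQuasiAffine] (O : Set X) (hO : O.Finite) (W : X.Opens)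
    (hOW : O ⊆ W) : ∃ f : Γ(X, ⊤), O ⊆ X.basicOpen f ∧ X.basicOpen f ≤ W := by
  obtain ⟨g, hg, hgW⟩ := GrpdLib.exists_basicOpen_of_finite (X.toSpecΓ '' O) (hO.image _) (X.toSpecΓ ''ᵁ W)
    (Set.image_mono hOW)
  obtain ⟨r, rfl⟩ := (ConcreteCategory.bijective_of_isIso (Scheme.ΓSpecIso Γ(X, ⊤)).inv).2 g
  have hr : (Spec Γ(X, ⊤)).basicOpen ((Scheme.ΓSpecIso Γ(X, ⊤)).inv r) = PrimeSpectrum.basicOpen r :=
    basicOpen_eq_of_affine r
  refine ⟨r, fun x hx => ?_, fun x hx => ?_⟩
  · rw [← X.toSpecΓ_preimage_basicOpen]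
    exact (hr.le (hg ⟨x, hx, rfl⟩) :)
  · rw [← X.toSpecΓ_preimage_basicOpen] at hx
    obtain ⟨w, hw, e⟩ := hgW (hr.ge hx)
    exact X.toSpecΓ.isOpenEmbedding.injective e ▸ hw

variable {X Y : Scheme.{u}} (π : X ⟶ Y)

/-- norm-like data: multiplicative, compatible with restrictions, preserving vanishing -/
structure Normish where
  norm : ∀ U : Y.Opens, Γ(X, π ⁻¹ᵁ U) →* Γ(Y, U)
  norm_res : ∀ {U V : Y.Opens} (i : V ⟶ U) (s : Γ(X, π ⁻¹ᵁ U)),
    Y.presheaf.map i.op (norm U s) = norm V (X.presheaf.map ((Opens.map π.base).map i).op s)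
  norm_mem : ∀ (U : Y.Opens) (s : Γ(X, π ⁻¹ᵁ U)) (x : X) (hx : π.base x ∈ U),
    X.presheaf.germ (π ⁻¹ᵁ U) x hx s ∈ IsLocalRing.maximalIdeal (X.presheaf.stalk x) →
      Y.presheaf.germ U (π.base x) hx (norm U s) ∈ IsLocalRing.maximalIdeal (Y.presheaf.stalk (π.base x))

variable {π}

/-- a norm is norm-like -/
def Normish.ofNorm {d : ℕ} (N : Nrm.NormOfDegree π d) : Normish π :=
  ⟨N.norm, N.norm_res, N.norm_mem⟩

theorem surjective_of_norm [IsFinite π] {d : ℕ} (N : Nrm.NormOfDegree π d) : Surjective π := by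
  refine ⟨fun y => by_contra fun hy => ?_⟩
  let W : Y.Opens := ⟨(Set.range π)ᶜ, π.isClosedMap.isClosed_range.isOpen_compl⟩
  have hW : π ⁻¹ᵁ W = ⊥ := le_bot_iff.mp fun x hx => (hx ⟨x, rfl⟩).elim
  have : Subsingleton Γ(X, π ⁻¹ᵁ W) := by rw [hW]; exact CommRingCat.subsingleton_of_isTerminal X.sheaf.isTerminalOfEmpty
  have h := N.norm_app W 0
  rw [zero_pow (by have := N.one_le; omega), map_zero, Subsingleton.elim (0 : Γ(X, π ⁻¹ᵁ W)) 1, map_one] at h
  have h2 := congrArg (Y.presheaf.germ W y hy).hom h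
  rw [map_one, map_zero] at h2
  exact one_ne_zero h2

theorem isQuasiAffine_of_normish [IsFinite π] [Surjective π] (N : Normish π) [X.IsQuasiAffine] :
    Y.IsQuasiAffine := by
  haveI : CompactSpace Y := π.surjective.compactSpace π.continuous
  refine Scheme.IsQuasiAffine.of_forall_exists_mem_basicOpen Y fun y => ?_
  obtain ⟨V, hV, hyV, -⟩ := exists_isAffineOpen_mem_and_subset (X := Y) (x := y) (U := ⊤) trivial
  obtain ⟨f, hfF, hfU⟩ := exists_basicOpen_of_finite (π ⁻¹' {y}) (π.finite_preimage_singleton y) (π ⁻¹ᵁ V)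
    fun x hx => by
      change π x ∈ V
      rw [show π x = y from hx]
      exact hyV
  set g := N.norm ⊤ f with hg
  have hgV : Y.basicOpen g ≤ V := fun z hz => by
    obtain ⟨x, rfl⟩ := π.surjective z
    refine hfU (by_contra fun hx => ?_)
    have hnu : ¬ IsUnit (X.presheaf.germ (π ⁻¹ᵁ ⊤) x trivial f) := fun h => hx ((X.mem_basicOpen f x trivial).mpr h)
    exact (IsLocalRing.mem_maximalIdeal _).mp (N.norm_mem ⊤ f x trivial ((IsLocalRing.mem_maximalIdeal _).mpr hnu))
      ((Y.mem_basicOpen g _ trivial).mp hz)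
  refine ⟨g, ?_, ?_⟩
  · have h : Y.basicOpen g = Y.basicOpen (Y.presheaf.map (homOfLE (le_top (a := V))).op g) := by
      rw [Scheme.basicOpen_res]
      exact (inf_eq_right.mpr hgV).symm
    rw [h]
    exact hV.basicOpen _
  · let W : Y.Opens := ⟨(π '' (X.basicOpen f : Set X)ᶜ)ᶜ,
      (π.isClosedMap _ (X.basicOpen f).isOpen.isClosed_compl).isOpen_compl⟩
    have hyW : y ∈ W := by
      rintro ⟨x, hx, hxy⟩
      exact hx (hfF hxy)
    have hle : π ⁻¹ᵁ W ≤ X.basicOpen f := fun x hx => by_contra fun h => hx ⟨x, h, rfl⟩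
    have hu : IsUnit (X.presheaf.map ((Opens.map π.base).map (homOfLE (le_top (a := W)))).op f) :=
      RingedSpace.isUnit_of_isUnit_germ X.toRingedSpace _ _ fun x hx => by
        rw [TopCat.Presheaf.germ_res_apply]
        exact (X.mem_basicOpen f x trivial).mp (hle hx)
    have hu' := hu.map (N.norm W)
    rw [← N.norm_res] at hu'
    refine (Y.mem_basicOpen g y trivial).mpr ?_
    rw [← TopCat.Presheaf.germ_res_apply Y.presheaf (homOfLE (le_top (a := W))) y hyW g]
    exact hu'.map _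

end Groth.Agent.SDiv28.Norm
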