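import Mathlib
import Groth.Prelude.Def_Fitting
import Groth.Prelude.Def_Pi1
import Groth.Agent.NormalExtLib.Basic
import Groth.Agent.SDiv28.Norm.QuasiAffine

/-!
# The norm of a finite surjective morphism onto a normal integral scheme
-/

set_option autoImplicit false
set_option linter.style.haveILetI false
set_option backward.isDefEq.respectTransparency.types false

universe u

open CategoryTheory AlgebraicGeometry TopologicalSpace Opposite

namespace Groth.Agent.SDiv28.Norm

section Algebra

variable {A B K L : Type u} [CommRing A] [CommRing B] [Field K] [Field L] [Algebra A B] [Algebra A K]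
  [Algebra K L] [Algebra B L] [Algebra A L] [IsScalarTower A K L] [IsScalarTower A B L]
  [IsFractionRing A K] [IsFractionRing B L] [Module.Finite A B]

omit [IsFractionRing A K] [IsFractionRing B L] [Module.Finite A B] [IsScalarTower A B L] [IsScalarTower A K L] in
theorem finiteDimensional_fraction (K : Type u) [Field K] [Algebra A K] [Algebra K L] [IsScalarTower A K L]
    [IsScalarTower A B L] [IsFractionRing B L] [Module.Finite A B] : FiniteDimensional K L := by
  classical
  obtain ⟨s, hs⟩ := ‹Module.Finite A B›.fg_top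
  let S : Set L := algebraMap B L '' (s : Set B)
  haveI : Finite S := (s.finite_toSet.image _).to_subtype
  let E : IntermediateField K L := IntermediateField.adjoin K S
  haveI : FiniteDimensional K E := IntermediateField.finiteDimensional_adjoin fun x hx => by
    obtain ⟨b, -, rfl⟩ := hx
    exact ((Algebra.IsIntegral.isIntegral (R := A) b).map (IsScalarTower.toAlgHom A B L)).tower_top
  have hB : ∀ b : B, algebraMap B L b ∈ E := by
    intro b
    have hb : b ∈ Submodule.span A (s : Set B) := hs ▸ Submodule.mem_top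
    induction hb using Submodule.span_induction with
    | mem x hx => exact IntermediateField.subset_adjoin K S ⟨x, hx, rfl⟩
    | zero => rw [map_zero]; exact E.zero_mem
    | add x y _ _ hx hy => rw [map_add]; exact E.add_mem hx hy
    | smul a x _ hx =>
      rw [Algebra.smul_def, map_mul, ← IsScalarTower.algebraMap_apply, IsScalarTower.algebraMap_apply A K L]
      exact E.mul_mem (E.algebraMap_mem _) hx
  have htop : E = ⊤ := eq_top_iff.mpr fun x _ => by
    obtain ⟨b, c, -, rfl⟩ := IsFractionRing.div_surjective (A := B) x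
    exact E.div_mem (hB b) (hB c)
  haveI : FiniteDimensional K (⊤ : IntermediateField K L) := htop ▸ (inferInstance : FiniteDimensional K E)
  exact LinearEquiv.finiteDimensional IntermediateField.topEquiv.toLinearEquiv

theorem norm_mem_range [IsIntegrallyClosed A] (b : B) : ∃ a : A, algebraMap A K a = Algebra.norm K (algebraMap B L b) :=
  IsIntegrallyClosed.algebraMap_eq_of_integral
    (Algebra.isIntegral_norm (R := A) K ((Algebra.IsIntegral.isIntegral b).map (IsScalarTower.toAlgHom A B L)))

theorem isUnit_of_norm_eq [IsDomain A] [IsIntegrallyClosed A] [IsDomain B] {b : B} {a : A}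
    (h : algebraMap A K a = Algebra.norm K (algebraMap B L b)) (ha : IsUnit a) : IsUnit b := by
  have hinjA : Function.Injective (algebraMap A K) := IsFractionRing.injective A K
  have hinjB : Function.Injective (algebraMap B L) := IsFractionRing.injective B L
  haveI : Module.IsTorsionFree A B := Module.isTorsionFree_iff_algebraMap_injective.mpr fun x y e => hinjA
    ((algebraMap K L).injective (by
      rw [← IsScalarTower.algebraMap_apply, ← IsScalarTower.algebraMap_apply, IsScalarTower.algebraMap_apply A B L,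
        IsScalarTower.algebraMap_apply A B L, e]))
  haveI := finiteDimensional_fraction (A := A) (B := B) (L := L) K
  have hb : IsIntegral A b := Algebra.IsIntegral.isIntegral b
  set z := algebraMap B L b
  have hzA : IsIntegral A z := hb.map (IsScalarTower.toAlgHom A B L)
  have hzK : IsIntegral K z := hzA.tower_top
  have hmin : minpoly K z = (minpoly A b).map (algebraMap A K) :=
    minpoly.isIntegrallyClosed_eq_field_fractions K L hb
  rw [Algebra.norm_eq_norm_adjoin K z, ← IntermediateField.adjoin.powerBasis_gen hzK,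
    Algebra.PowerBasis.norm_gen_eq_coeff_zero_minpoly, IntermediateField.adjoin.powerBasis_gen hzK,
    IntermediateField.minpoly_gen, hmin, Polynomial.coeff_map, ← map_one (algebraMap A K), ← map_neg,
    ← map_pow, ← map_mul, ← map_pow] at h
  have hpos : Module.finrank (IntermediateField.adjoin K {z}) L ≠ 0 :=
    Module.finrank_pos.ne'
  have hu := (hinjA h) ▸ ha
  rw [isUnit_pow_iff hpos, IsUnit.mul_iff] at hu
  have hc := hu.2.map (algebraMap A B)
  have hev := minpoly.aeval A b
  rw [← Polynomial.divX_mul_X_add (minpoly A b), map_add, map_mul, Polynomial.aeval_X, Polynomial.aeval_C,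
    add_eq_zero_iff_eq_neg] at hev
  exact isUnit_of_dvd_unit (Dvd.intro_left _ hev) hc.neg

end Algebra

variable {X Y : Scheme.{u}} (π : X ⟶ Y)

theorem isFractionRing_stalk [IsIntegral Y] {y : Y} (hy : y = genericPoint Y) {V : Y.Opens} (hV : IsAffineOpen V)
    (hyV : y ∈ V) :
    letI := (Y.presheaf.germ V y hyV).hom.toAlgebra
    IsFractionRing Γ(Y, V) (Y.presheaf.stalk y) := by
  subst hy
  haveI : Nonempty V := ⟨⟨_, hyV⟩⟩
  exact functionField_isFractionRing_of_isAffineOpen Y V hV

theorem map_genericPoint [IsIntegral X] [IsIntegral Y] [Surjective π] : π (genericPoint X) = genericPoint Y := by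
  have h : IsGenericPoint (π (genericPoint X)) (⊤ : Set Y) := by
    have := (genericPoint_spec X).image π.continuous
    rw [Set.image_univ, π.surjective.range_eq, closure_univ] at this
    exact this
  exact h.eq (genericPoint_spec Y)

variable [IsIntegral X] [IsIntegral Y]

/-- the function field of Y, at the image of the generic point -/
abbrev KY : Type u := Y.presheaf.stalk (π (genericPoint X))

/-- field structure -/
@[reducible] noncomputable def fieldKY [Surjective π] : Field (KY π) :=
  (show IsField (KY π) by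
    change IsField (Y.presheaf.stalk (π (genericPoint X)))
    rw [map_genericPoint π]
    exact Field.toIsField Y.functionField).toField

/-- the field norm -/
noncomputable def normK : X.functionField →* KY π :=
  letI := (π.stalkMap (genericPoint X)).hom.toAlgebra
  Algebra.norm (KY π)

/-- `a` is the norm of `b` -/
def IsNormOf (U : Y.Opens) (b : Γ(X, π ⁻¹ᵁ U)) (a : Γ(Y, U)) : Prop :=
  ∀ h : π (genericPoint X) ∈ U, Y.presheaf.germ U _ h a = normK π (X.presheaf.germ (π ⁻¹ᵁ U) (genericPoint X) h b)

theorem IsNormOf.unique [Surjective π] {U : Y.Opens} {b : Γ(X, π ⁻¹ᵁ U)} {a a' : Γ(Y, U)} (ha : IsNormOf π U b a)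
    (ha' : IsNormOf π U b a') : a = a' := by
  by_cases h : π (genericPoint X) ∈ U
  · exact germ_injective_of_isIntegral Y _ h ((ha h).trans (ha' h).symm)
  · have hU : U = ⊥ := le_bot_iff.mp fun y hy => h
      ((genericPoint_specializes y).mem_open U.isOpen hy |> fun e => (map_genericPoint π).symm ▸ e)
    subst hU
    haveI : Subsingleton Γ(Y, ⊥) := CommRingCat.subsingleton_of_isTerminal Y.sheaf.isTerminalOfEmpty
    exact Subsingleton.elim _ _

theorem IsNormOf.res {U V : Y.Opens} (i : V ⟶ U) {b : Γ(X, π ⁻¹ᵁ U)} {a : Γ(Y, U)} (ha : IsNormOf π U b a) :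
    IsNormOf π V (X.presheaf.map ((Opens.map π.base).map i).op b) (Y.presheaf.map i.op a) := by
  intro h
  rw [TopCat.Presheaf.germ_res_apply, TopCat.Presheaf.germ_res_apply]
  exact ha (i.le h)

theorem exists_isNormOf_affine [Surjective π] [IsFinite π] (hY : Pi1.IsNormalScheme Y) {V : Y.Opens}
    (hV : IsAffineOpen V) (b : Γ(X, π ⁻¹ᵁ V)) : ∃ a, IsNormOf π V b a := by
  by_cases h : π (genericPoint X) ∈ V
  swap
  · exact ⟨0, fun h' => absurd h' h⟩
  haveI : Nonempty V := ⟨⟨_, h⟩⟩
  haveI : Nonempty (π ⁻¹ᵁ V) := ⟨⟨genericPoint X, h⟩⟩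
  letI := fieldKY π
  letI := (π.stalkMap (genericPoint X)).hom.toAlgebra
  letI := (π.app V).hom.toAlgebra
  letI := (Y.presheaf.germ V _ h).hom.toAlgebra
  letI : Algebra Γ(X, π ⁻¹ᵁ V) X.functionField := (X.presheaf.germ (π ⁻¹ᵁ V) (genericPoint X) h).hom.toAlgebra
  letI : Algebra Γ(Y, V) X.functionField :=
    ((π.app V) ≫ X.presheaf.germ (π ⁻¹ᵁ V) (genericPoint X) h).hom.toAlgebra
  haveI : IsScalarTower Γ(Y, V) Γ(X, π ⁻¹ᵁ V) X.functionField := IsScalarTower.of_algebraMap_eq' rfl
  haveI : IsScalarTower Γ(Y, V) (KY π) X.functionField :=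
    IsScalarTower.of_algebraMap_eq' (congrArg CommRingCat.Hom.hom (π.germ_stalkMap V (genericPoint X) h).symm)
  haveI : Module.Finite Γ(Y, V) Γ(X, π ⁻¹ᵁ V) := IsFinite.finite_app (f := π) V hV
  haveI := isFractionRing_stalk (map_genericPoint π) hV h
  haveI : IsFractionRing Γ(X, π ⁻¹ᵁ V) X.functionField :=
    functionField_isFractionRing_of_isAffineOpen X _ (hV.preimage π)
  haveI := NormalExtLib.isIntegrallyClosed_sections hY V hV
  obtain ⟨a, ha⟩ := norm_mem_range (A := Γ(Y, V)) (K := KY π) (L := X.functionField) b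
  exact ⟨a, fun _ => ha⟩

theorem exists_isNormOf [Surjective π] [IsFinite π] (hY : Pi1.IsNormalScheme Y) (U : Y.Opens)
    (b : Γ(X, π ⁻¹ᵁ U)) : ∃ a, IsNormOf π U b a := by
  let J := {V : Y.Opens // IsAffineOpen V ∧ V ≤ U}
  choose a ha using fun V : J => exists_isNormOf_affine π hY V.2.1
    (X.presheaf.map ((Opens.map π.base).map (homOfLE V.2.2)).op b)
  have hc : TopCat.Presheaf.IsCompatible Y.sheaf.obj (fun V : J => V.1) a := fun V V' => by
    refine IsNormOf.unique π ((ha V).res π _) ?_
    intro h
    refine ((ha V').res π (Opens.infLERight V.1 V'.1) h).trans (congrArg (normK π) ?_)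
    rw [TopCat.Presheaf.germ_res_apply, TopCat.Presheaf.germ_res_apply, TopCat.Presheaf.germ_res_apply,
      TopCat.Presheaf.germ_res_apply]
  obtain ⟨t, ht, -⟩ := Y.sheaf.existsUnique_gluing' (fun V : J => V.1) U (fun V => homOfLE V.2.2)
    (fun y hy => by
      obtain ⟨V, hV, hyV, hVU⟩ := exists_isAffineOpen_mem_and_subset (X := Y) (x := y) (U := U) hy
      exact Opens.mem_iSup.mpr ⟨⟨V, hV, hVU⟩, hyV⟩) a hc
  refine ⟨t, fun h => ?_⟩
  obtain ⟨V, hV, hxV, hVU'⟩ := exists_isAffineOpen_mem_and_subset (X := Y) (U := U) h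
  have hVU : V ≤ U := hVU'
  have h1 := ha ⟨V, hV, hVU⟩ hxV
  rw [← ht ⟨V, hV, hVU⟩] at h1
  change Y.presheaf.germ V _ hxV (Y.presheaf.map (homOfLE hVU).op t) = _ at h1
  rw [TopCat.Presheaf.germ_res_apply, TopCat.Presheaf.germ_res_apply] at h1
  exact h1

/-- the norm on all opens -/
noncomputable def normalNorm [Surjective π] [IsFinite π] (hY : Pi1.IsNormalScheme Y) : Normish π where
  norm U :=
    { toFun := fun b => (exists_isNormOf π hY U b).choose
      map_one' := IsNormOf.unique π (exists_isNormOf π hY U 1).choose_spec fun h => by rw [map_one, map_one, map_one]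
      map_mul' := fun b b' => IsNormOf.unique π (exists_isNormOf π hY U (b * b')).choose_spec fun h => by
        rw [map_mul, map_mul, map_mul, (exists_isNormOf π hY U b).choose_spec h,
          (exists_isNormOf π hY U b').choose_spec h] }
  norm_res {U V} i s := IsNormOf.unique π ((exists_isNormOf π hY U s).choose_spec.res π i)
    (exists_isNormOf π hY V _).choose_spec
  norm_mem U s x hx hs := by
    rw [IsLocalRing.mem_maximalIdeal] at hs ⊢
    intro hu
    set a := (exists_isNormOf π hY U s).choose
    obtain ⟨V, hV, hxV, hVle⟩ := exists_isAffineOpen_mem_and_subset (X := Y) (x := π x)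
      (U := Y.basicOpen a) ((Y.mem_basicOpen _ _ hx).mpr hu)
    have hVU : V ≤ U := hVle.trans (Y.basicOpen_le _)
    have h1 : IsUnit (Y.presheaf.map (homOfLE hVU).op a) :=
      RingedSpace.isUnit_of_isUnit_germ Y.toRingedSpace _ _ fun y hy => by
        rw [TopCat.Presheaf.germ_res_apply]
        exact (Y.mem_basicOpen _ y _).mp (hVle hy)
    haveI : Nonempty V := ⟨⟨_, hxV⟩⟩
    have hgen : π (genericPoint X) ∈ V := by
      rw [map_genericPoint π]
      exact (genericPoint_specializes (π x)).mem_open V.isOpen hxV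
    haveI : Nonempty (π ⁻¹ᵁ V) := ⟨⟨genericPoint X, hgen⟩⟩
    letI := fieldKY π
    letI := (π.stalkMap (genericPoint X)).hom.toAlgebra
    letI := (π.app V).hom.toAlgebra
    letI := (Y.presheaf.germ V _ hgen).hom.toAlgebra
    letI : Algebra Γ(X, π ⁻¹ᵁ V) X.functionField := (X.presheaf.germ (π ⁻¹ᵁ V) (genericPoint X) hgen).hom.toAlgebra
    letI : Algebra Γ(Y, V) X.functionField :=
      ((π.app V) ≫ X.presheaf.germ (π ⁻¹ᵁ V) (genericPoint X) hgen).hom.toAlgebra
    haveI : IsScalarTower Γ(Y, V) Γ(X, π ⁻¹ᵁ V) X.functionField := IsScalarTower.of_algebraMap_eq' rfl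
    haveI : IsScalarTower Γ(Y, V) (KY π) X.functionField :=
      IsScalarTower.of_algebraMap_eq' (congrArg CommRingCat.Hom.hom (π.germ_stalkMap V (genericPoint X) hgen).symm)
    haveI : Module.Finite Γ(Y, V) Γ(X, π ⁻¹ᵁ V) := IsFinite.finite_app (f := π) V hV
    haveI := isFractionRing_stalk (map_genericPoint π) hV hgen
    haveI : IsFractionRing Γ(X, π ⁻¹ᵁ V) X.functionField :=
      functionField_isFractionRing_of_isAffineOpen X _ (hV.preimage π)
    haveI := NormalExtLib.isIntegrallyClosed_sections hY V hV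
    have h2 := (isUnit_of_norm_eq (A := Γ(Y, V)) (B := Γ(X, π ⁻¹ᵁ V)) (K := KY π) (L := X.functionField)
      (((exists_isNormOf π hY U s).choose_spec.res π (homOfLE hVU)) hgen) h1).map
      (X.presheaf.germ (π ⁻¹ᵁ V) x hxV).hom
    rw [TopCat.Presheaf.germ_res_apply] at h2
    exact hs h2

theorem hasNorm_of_normal [Surjective π] [IsFinite π] (hY : Pi1.IsNormalScheme Y) : ∃ d, Nrm.HasNorm π d := by
  letI := fieldKY π
  letI := (π.stalkMap (genericPoint X)).hom.toAlgebra
  obtain ⟨V, hV, hxV, -⟩ := exists_isAffineOpen_mem_and_subset (X := Y) (x := π (genericPoint X)) (U := ⊤) trivial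
  haveI : FiniteDimensional (KY π) X.functionField := by
    haveI : Nonempty V := ⟨⟨_, hxV⟩⟩
    haveI : Nonempty (π ⁻¹ᵁ V) := ⟨⟨genericPoint X, hxV⟩⟩
    letI := (π.app V).hom.toAlgebra
    letI := (Y.presheaf.germ V _ hxV).hom.toAlgebra
    letI : Algebra Γ(X, π ⁻¹ᵁ V) X.functionField := (X.presheaf.germ (π ⁻¹ᵁ V) (genericPoint X) hxV).hom.toAlgebra
    letI : Algebra Γ(Y, V) X.functionField :=
      ((π.app V) ≫ X.presheaf.germ (π ⁻¹ᵁ V) (genericPoint X) hxV).hom.toAlgebra
    haveI : IsScalarTower Γ(Y, V) Γ(X, π ⁻¹ᵁ V) X.functionField := IsScalarTower.of_algebraMap_eq' rfl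
    haveI : IsScalarTower Γ(Y, V) (KY π) X.functionField :=
      IsScalarTower.of_algebraMap_eq' (congrArg CommRingCat.Hom.hom (π.germ_stalkMap V (genericPoint X) hxV).symm)
    haveI : Module.Finite Γ(Y, V) Γ(X, π ⁻¹ᵁ V) := IsFinite.finite_app (f := π) V hV
    haveI : IsFractionRing Γ(X, π ⁻¹ᵁ V) X.functionField :=
      functionField_isFractionRing_of_isAffineOpen X _ (hV.preimage π)
    exact finiteDimensional_fraction (A := Γ(Y, V)) (B := Γ(X, π ⁻¹ᵁ V)) (L := X.functionField) (KY π)
  refine ⟨Module.finrank (KY π) X.functionField, ⟨{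
    one_le := Module.finrank_pos
    norm := (normalNorm π hY).norm
    norm_res := (normalNorm π hY).norm_res
    norm_mem := (normalNorm π hY).norm_mem
    norm_app := fun U g => IsNormOf.unique π (exists_isNormOf π hY U (π.app U g)).choose_spec fun h => ?_ }⟩⟩
  rw [map_pow]
  refine Eq.trans ?_ (congrArg (normK π) (ConcreteCategory.congr_hom (π.germ_stalkMap U (genericPoint X) h) g))
  exact (Algebra.norm_algebraMap (R := KY π) (S := X.functionField) _).symm

end Groth.Agent.SDiv28.Norm
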