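import Mathlib
import Groth.Prelude.Def_Fitting
import Groth.Prelude.Def_Mor2
import Groth.Agent.GrpdLib.InvariantAffine
import Groth.Agent.SDiv28.Norm.QuasiAffine
import Groth.Agent.RelSpecLib.Basic

/-!
# The norm of a finite locally free morphism
-/

set_option autoImplicit false
set_option linter.style.haveILetI false
set_option backward.isDefEq.respectTransparency.types false

universe u

open CategoryTheory AlgebraicGeometry TopologicalSpace Opposite TensorProduct
open Groth.Agent.GrpdLib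

namespace Groth.Agent.SDiv28.Norm

variable {X Y : Scheme.{u}} (π : X ⟶ Y) [IsFinite π] [Flat π] [LocallyOfFinitePresentation π]

theorem finite_projective_app {V : Y.Opens} (hV : IsAffineOpen V) :
    letI := (π.app V).hom.toAlgebra
    Module.Finite Γ(Y, V) Γ(X, π ⁻¹ᵁ V) ∧ Module.Projective Γ(Y, V) Γ(X, π ⁻¹ᵁ V) := by
  letI := (π.app V).hom.toAlgebra
  haveI : Module.Finite Γ(Y, V) Γ(X, π ⁻¹ᵁ V) := IsFinite.finite_app (f := π) V hV
  have h1 := π.flat_appLE hV (hV.preimage π) le_rfl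
  rw [← π.app_eq_appLE] at h1
  haveI : Module.Flat Γ(Y, V) Γ(X, π ⁻¹ᵁ V) := h1
  have h2 := (HasRingHomProperty.iff_appLE (P := @LocallyOfFinitePresentation) (f := π)).1 ‹_› ⟨V, hV⟩
    ⟨_, hV.preimage π⟩ le_rfl
  rw [← π.app_eq_appLE] at h2
  haveI : Algebra.FinitePresentation Γ(Y, V) Γ(X, π ⁻¹ᵁ V) := h2
  haveI := Module.FinitePresentation.of_finite_of_finitePresentation Γ(Y, V) Γ(X, π ⁻¹ᵁ V)
  exact ⟨inferInstance, Module.Flat.projective_of_finitePresentation⟩

/-- a presentation over an affine open -/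
noncomputable def presV {V : Y.Opens} (hV : IsAffineOpen V) :
    letI := (π.app V).hom.toAlgebra
    ProjPres Γ(Y, V) Γ(X, π ⁻¹ᵁ V) :=
  letI := (π.app V).hom.toAlgebra
  haveI := (finite_projective_app π hV).1
  haveI := (finite_projective_app π hV).2
  ProjPres.nonempty.some

/-- the norm over an affine open -/
noncomputable def affNorm {V : Y.Opens} (hV : IsAffineOpen V) : Γ(X, π ⁻¹ᵁ V) →* Γ(Y, V) :=
  letI := (π.app V).hom.toAlgebra
  { toFun := (presV π hV).norm
    map_one' := (presV π hV).norm_one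
    map_mul' := (presV π hV).norm_mul }

theorem affNorm_res {V W : Y.Opens} (hV : IsAffineOpen V) (hW : IsAffineOpen W) (r : Γ(Y, V))
    (hr : Y.basicOpen r = W) (hWV : W ≤ V) (s : Γ(X, π ⁻¹ᵁ V)) :
    Y.presheaf.map (homOfLE hWV).op (affNorm π hV s) =
      affNorm π hW (X.presheaf.map (homOfLE (π.preimage_mono hWV)).op s) := by
  subst hr
  letI := (π.app V).hom.toAlgebra
  letI := (π.app (Y.basicOpen r)).hom.toAlgebra
  letI := (Y.presheaf.map (homOfLE hWV).op).hom.toAlgebra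
  letI := (X.presheaf.map (homOfLE (π.preimage_mono hWV)).op).hom.toAlgebra
  letI := ((π.app V) ≫ X.presheaf.map (homOfLE (π.preimage_mono hWV)).op).hom.toAlgebra
  haveI : IsScalarTower Γ(Y, V) Γ(X, π ⁻¹ᵁ V) Γ(X, π ⁻¹ᵁ Y.basicOpen r) := IsScalarTower.of_algebraMap_eq' rfl
  haveI : IsScalarTower Γ(Y, V) Γ(Y, Y.basicOpen r) Γ(X, π ⁻¹ᵁ Y.basicOpen r) :=
    IsScalarTower.of_algebraMap_eq' (congrArg CommRingCat.Hom.hom (π.naturality (homOfLE hWV).op).symm)
  haveI : IsLocalization.Away r Γ(Y, Y.basicOpen r) := hV.isLocalization_basicOpen r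
  haveI : IsLocalization.Away (algebraMap Γ(Y, V) Γ(X, π ⁻¹ᵁ V) r) Γ(X, π ⁻¹ᵁ Y.basicOpen r) :=
    RelSpec.QCAlg.isQC_pushforward π V hV r
  haveI : IsLocalization (Algebra.algebraMapSubmonoid Γ(X, π ⁻¹ᵁ V) (Submonoid.powers r))
      Γ(X, π ⁻¹ᵁ Y.basicOpen r) := by
    rw [Algebra.algebraMapSubmonoid_powers]; infer_instance
  haveI : Algebra.IsPushout Γ(Y, V) Γ(Y, Y.basicOpen r) Γ(X, π ⁻¹ᵁ V) Γ(X, π ⁻¹ᵁ Y.basicOpen r) :=
    (Algebra.isPushout_of_isLocalization (Submonoid.powers r) Γ(Y, Y.basicOpen r) Γ(X, π ⁻¹ᵁ V) Γ(X, π ⁻¹ᵁ Y.basicOpen r)).symm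
  change algebraMap Γ(Y, V) Γ(Y, Y.basicOpen r) ((presV π hV).norm s) =
    (presV π hW).norm (algebraMap Γ(X, π ⁻¹ᵁ V) Γ(X, π ⁻¹ᵁ Y.basicOpen r) s)
  rw [← ProjPres.norm_baseChange (L := Γ(Y, Y.basicOpen r)) (P := Γ(X, π ⁻¹ᵁ Y.basicOpen r))]
  exact ProjPres.norm_algEquiv _ _ AlgEquiv.refl _

theorem isUnit_of_isUnit_affNorm {V : Y.Opens} (hV : IsAffineOpen V) {s : Γ(X, π ⁻¹ᵁ V)}
    (h : IsUnit (affNorm π hV s)) : IsUnit s := by
  letI := (π.app V).hom.toAlgebra
  exact isUnit_of_dvd_unit ((presV π hV).dvd_algebraMap_norm s) (h.map _)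

theorem affNorm_compat {U : Y.Opens} (s : Γ(X, π ⁻¹ᵁ U)) {V V' W : Y.Opens} (hV : IsAffineOpen V)
    (hV' : IsAffineOpen V') (hVU : V ≤ U) (hV'U : V' ≤ U) (hWV : W ≤ V) (hWV' : W ≤ V') :
    Y.presheaf.map (homOfLE hWV).op (affNorm π hV (X.presheaf.map (homOfLE (π.preimage_mono hVU)).op s)) =
      Y.presheaf.map (homOfLE hWV').op (affNorm π hV' (X.presheaf.map (homOfLE (π.preimage_mono hV'U)).op s)) := by
  let J := {r : Γ(Y, V) // Y.basicOpen r ≤ W ∧ ∃ r' : Γ(Y, V'), Y.basicOpen r' = Y.basicOpen r}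
  refine Y.sheaf.eq_of_locally_eq' (fun r : J => Y.basicOpen r.1) W (fun r => homOfLE r.2.1) ?_ _ _ ?_
  · intro y hy
    obtain ⟨r₀, hr₀, hy₀⟩ := hV.exists_basicOpen_le ⟨y, hy⟩ (hWV hy)
    obtain ⟨f, g, e, hf⟩ := exists_basicOpen_le_affine_inter (hV.basicOpen r₀) hV' y ⟨hy₀, hWV' hy⟩
    obtain ⟨r₁, hr₁⟩ := hV.basicOpen_basicOpen_is_basicOpen r₀ f
    exact Opens.mem_iSup.mpr ⟨⟨r₁, hr₁ ▸ (Y.basicOpen_le f).trans hr₀, g, by rw [hr₁, e]⟩, hr₁ ▸ hf⟩
  · rintro ⟨r, hrW, r', hr'⟩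
    have hr : IsAffineOpen (Y.basicOpen r) := hV.basicOpen r
    change Y.presheaf.map _ (Y.presheaf.map _ _) = Y.presheaf.map _ (Y.presheaf.map _ _)
    simp only [← ConcreteCategory.comp_apply, ← Functor.map_comp, ← op_comp]
    have e₁ := affNorm_res π hV hr r rfl (hrW.trans hWV) (X.presheaf.map (homOfLE (π.preimage_mono hVU)).op s)
    have e₂ := affNorm_res π hV' hr r' hr' (hrW.trans hWV') (X.presheaf.map (homOfLE (π.preimage_mono hV'U)).op s)
    refine e₁.trans (Eq.trans ?_ e₂.symm)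
    simp only [← ConcreteCategory.comp_apply, ← Functor.map_comp, ← op_comp]
    rfl

theorem exists_norm (U : Y.Opens) (s : Γ(X, π ⁻¹ᵁ U)) : ∃ t : Γ(Y, U), ∀ (V : Y.Opens) (hV : IsAffineOpen V) (h : V ≤ U),
    Y.presheaf.map (homOfLE h).op t = affNorm π hV (X.presheaf.map (homOfLE (π.preimage_mono h)).op s) := by
  let J := {V : Y.Opens // IsAffineOpen V ∧ V ≤ U}
  obtain ⟨t, ht, -⟩ := Y.sheaf.existsUnique_gluing' (fun V : J => V.1) U (fun V => homOfLE V.2.2)
    (fun y hy => by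
      obtain ⟨V, hV, hyV, hVU⟩ := exists_isAffineOpen_mem_and_subset (X := Y) (x := y) (U := U) hy
      exact Opens.mem_iSup.mpr ⟨⟨V, hV, hVU⟩, hyV⟩)
    (fun V => affNorm π V.2.1 (X.presheaf.map (homOfLE (π.preimage_mono V.2.2)).op s))
    (fun V V' => affNorm_compat π s V.2.1 V'.2.1 V.2.2 V'.2.2 inf_le_left inf_le_right)
  exact ⟨t, fun V hV h => ht ⟨V, hV, h⟩⟩

/-- the norm on all opens -/
noncomputable def normFun (U : Y.Opens) (s : Γ(X, π ⁻¹ᵁ U)) : Γ(Y, U) := (exists_norm π U s).choose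

theorem normFun_spec {U : Y.Opens} (s : Γ(X, π ⁻¹ᵁ U)) {V : Y.Opens} (hV : IsAffineOpen V) (h : V ≤ U) :
    Y.presheaf.map (homOfLE h).op (normFun π U s) = affNorm π hV (X.presheaf.map (homOfLE (π.preimage_mono h)).op s) :=
  (exists_norm π U s).choose_spec V hV h

theorem eq_of_affine {U : Y.Opens} {a b : Γ(Y, U)}
    (H : ∀ (V : Y.Opens) (_ : IsAffineOpen V) (h : V ≤ U), Y.presheaf.map (homOfLE h).op a = Y.presheaf.map (homOfLE h).op b) :
    a = b := by
  refine Y.sheaf.eq_of_locally_eq' (fun V : {V : Y.Opens // IsAffineOpen V ∧ V ≤ U} => V.1) U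
    (fun V => homOfLE V.2.2) (fun y hy => ?_) _ _ fun V => H V.1 V.2.1 V.2.2
  obtain ⟨V, hV, hyV, hVU⟩ := exists_isAffineOpen_mem_and_subset (X := Y) (x := y) (U := U) hy
  exact Opens.mem_iSup.mpr ⟨⟨V, hV, hVU⟩, hyV⟩

/-- the norm -/
noncomputable def normHom (U : Y.Opens) : Γ(X, π ⁻¹ᵁ U) →* Γ(Y, U) where
  toFun := normFun π U
  map_one' := eq_of_affine fun V hV h => by rw [normFun_spec π _ hV, map_one, map_one, map_one]
  map_mul' a b := eq_of_affine fun V hV h => by
    rw [map_mul, normFun_spec π _ hV, normFun_spec π _ hV, normFun_spec π _ hV, map_mul, map_mul]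

/-- the norm-like structure -/
noncomputable def normishOfFinLocFree : Normish π where
  norm := normHom π
  norm_res {U U'} i s := eq_of_affine fun V hV h => by
    change Y.presheaf.map _ (Y.presheaf.map i.op (normFun π U s)) = Y.presheaf.map _ (normFun π U' _)
    rw [normFun_spec π _ hV h, ← ConcreteCategory.comp_apply, ← Functor.map_comp]
    refine (normFun_spec π s hV (h.trans i.le)).trans ?_
    rw [← ConcreteCategory.comp_apply, ← Functor.map_comp]
    rfl
  norm_mem U s x hx hs := by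
    rw [IsLocalRing.mem_maximalIdeal] at hs ⊢
    intro hu
    obtain ⟨V, hV, hxV, hVle⟩ := exists_isAffineOpen_mem_and_subset (X := Y) (x := π x)
      (U := Y.basicOpen (normFun π U s)) ((Y.mem_basicOpen _ _ hx).mpr hu)
    have hVU : V ≤ U := hVle.trans (Y.basicOpen_le _)
    have h1 : IsUnit (Y.presheaf.map (homOfLE hVU).op (normFun π U s)) :=
      RingedSpace.isUnit_of_isUnit_germ Y.toRingedSpace _ _ fun y hy => by
        rw [TopCat.Presheaf.germ_res_apply]
        exact (Y.mem_basicOpen _ y _).mp (hVle hy)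
    rw [normFun_spec π s hV hVU] at h1
    have h2 := (isUnit_of_isUnit_affNorm π hV h1).map (X.presheaf.germ (π ⁻¹ᵁ V) x hxV).hom
    rw [TopCat.Presheaf.germ_res_apply] at h2
    exact hs h2

theorem norm_algebraMap {A B : Type u} [CommRing A] [CommRing B] [Algebra A B] [Module.Finite A B]
    [Module.Projective A B] (p : ProjPres A B) (d : ℕ) (hd : ∀ q : PrimeSpectrum A, Module.rankAtStalk B q = d)
    (a : A) : p.norm (algebraMap A B a) = a ^ d := by
  refine MaximalSpectrum.toPiLocalization_injective A (funext fun m => ?_)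
  let q : PrimeSpectrum A := m.toPrimeSpectrum
  change algebraMap A (Localization.AtPrime q.asIdeal) (p.norm (algebraMap A B a)) =
    algebraMap A (Localization.AtPrime q.asIdeal) (a ^ d)
  let L := Localization.AtPrime q.asIdeal
  letI : Algebra B (L ⊗[A] B) := Algebra.TensorProduct.rightAlgebra
  rw [← p.norm_baseChange (L := L) (P := L ⊗[A] B), ← IsScalarTower.algebraMap_apply A B,
    IsScalarTower.algebraMap_apply A L, map_pow]
  haveI : Module.Free L (L ⊗[A] B) := Module.free_of_flat_of_isLocalRing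
  let b := Module.finBasis L (L ⊗[A] B)
  have hrk : Module.finrank L (L ⊗[A] B) = d := (Module.rankAtStalk_eq_finrank_tensorProduct q).symm.trans (hd q)
  let p' : ProjPres L (L ⊗[A] B) := ⟨_, b.equivFun.symm.toLinearMap, b.equivFun.toLinearMap, b.equivFun.symm_apply_apply⟩
  rw [ProjPres.norm_algEquiv _ p' AlgEquiv.refl, AlgEquiv.coe_refl, id, ProjPres.norm,
    show algebraMap L (L ⊗[A] B) (algebraMap A L a) - 1 = algebraMap L (L ⊗[A] B) (algebraMap A L a - 1) by
      rw [map_sub, map_one]]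
  have hm : p'.mat (algebraMap L (L ⊗[A] B) (algebraMap A L a - 1)) = (algebraMap A L a - 1) • 1 := by
    rw [ProjPres.mat, show p'.endo (algebraMap L (L ⊗[A] B) (algebraMap A L a - 1)) =
      (algebraMap A L a - 1) • LinearMap.id from LinearMap.ext fun x => by
        change b.equivFun (algebraMap L (L ⊗[A] B) (algebraMap A L a - 1) * b.equivFun.symm x) = _
        rw [← Algebra.smul_def, map_smul, LinearEquiv.apply_symm_apply]
        rfl, map_smul, LinearMap.toMatrix'_id]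
  rw [hm, show (1 : Matrix (Fin p'.n) (Fin p'.n) L) + (algebraMap A L a - 1) • 1 = (algebraMap A L a) • 1 by
    rw [sub_smul, one_smul]; abel, Matrix.det_smul, Matrix.det_one, mul_one, Fintype.card_fin]
  exact congrArg _ hrk

theorem rankAtStalk_app (d : ℕ) (hd : ∀ y : Y, π.finrank y = d) {V : Y.Opens} (hV : IsAffineOpen V) :
    letI := (π.app V).hom.toAlgebra
    ∀ q : PrimeSpectrum Γ(Y, V), Module.rankAtStalk Γ(X, π ⁻¹ᵁ V) q = d := by
  letI := (π.app V).hom.toAlgebra
  haveI := (finite_projective_app π hV).1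
  haveI := (finite_projective_app π hV).2
  intro q
  rw [← Scheme.Hom.finrank_SpecMap_algebraMap Γ(Y, V) Γ(X, π ⁻¹ᵁ V) q, ← hd (hV.fromSpec q)]
  have sq : IsPullback (hV.preimage π).fromSpec
      (Spec.map (CommRingCat.ofHom (algebraMap Γ(Y, V) Γ(X, π ⁻¹ᵁ V)))) π hV.fromSpec := by
    refine IsPullback.of_iso (isPullback_morphismRestrict π V).flip (hV.preimage π).isoSpec (Iso.refl _) hV.isoSpec
      (Iso.refl _) ?_ ?_ (by simp) ?_
    · exact (Category.comp_id _).trans (IsAffineOpen.isoSpec_hom_fromSpec _).symm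
    · rw [IsAffineOpen.isoSpec_hom, IsAffineOpen.isoSpec_hom]
      change _ = _ ≫ Spec.map (π.app V)
      rw [π.app_eq_appLE, Scheme.Opens.toSpecΓ_SpecMap_appLE]
      simp [Scheme.Hom.resLE_eq_morphismRestrict]
    · exact (Category.comp_id _).trans (IsAffineOpen.isoSpec_hom_fromSpec _).symm
  exact Scheme.Hom.finrank_of_isPullback _ _ _ _ sq q

theorem hasNorm_of_finLocFree (d : ℕ) (hd1 : 1 ≤ d) (hd : ∀ y : Y, π.finrank y = d) : Nrm.HasNorm π d :=
  ⟨{ one_le := hd1
     norm := (normishOfFinLocFree π).norm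
     norm_res := (normishOfFinLocFree π).norm_res
     norm_app := fun U g => eq_of_affine fun V hV h => by
       change Y.presheaf.map _ (normFun π U _) = _
       letI := (π.app V).hom.toAlgebra
       haveI := (finite_projective_app π hV).1
       haveI := (finite_projective_app π hV).2
       rw [normFun_spec π _ hV h, map_pow]
       refine Eq.trans (congrArg (affNorm π hV) ?_) (norm_algebraMap (presV π hV) d (rankAtStalk_app π d hd hV) _)
       exact (ConcreteCategory.congr_hom (π.naturality (homOfLE h).op) g).symm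
     norm_mem := (normishOfFinLocFree π).norm_mem }⟩

end Groth.Agent.SDiv28.Norm
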