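import Mathlib
import Groth.Prelude.Def_Fitting

/-!
# The norm of the reduction in positive characteristic
-/

set_option autoImplicit false
set_option linter.style.haveILetI false
set_option backward.isDefEq.respectTransparency.types false

universe u

open CategoryTheory AlgebraicGeometry TopologicalSpace Opposite

namespace Groth.Agent.SDiv28.Norm

theorem pow_eq_pow_of_pow_sub_eq_zero {R : Type u} [CommRing R] {p : ℕ} (hp : p.Prime) (hpR : (p : R) = 0)
    (e : ℕ) {a b : R} (h : (a - b) ^ p ^ e = 0) : a ^ p ^ e = b ^ p ^ e := by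
  rcases subsingleton_or_nontrivial R with hR | hR
  · exact Subsingleton.elim _ _
  haveI := Fact.mk hp
  haveI : CharP R p := (CharP.charP_iff_prime_eq_zero hp).mpr hpR
  rw [sub_pow_char_pow] at h
  exact sub_eq_zero.mp h

variable (X : Scheme.{u})

/-- abbreviation for the reduction -/
noncomputable abbrev redι : X.nilradical.subscheme ⟶ X := X.nilradical.subschemeι

theorem exists_bound [IsNoetherian X] : ∃ m : ℕ, ∀ (U : X.Opens) (z : Γ(X, U)),
    (redι X).app U z = 0 → z ^ m = 0 := by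
  classical
  have hex : ∀ x : X, ∃ V : X.affineOpens, x ∈ V.1 := fun x => by
    obtain ⟨V, hV, hxV, -⟩ := exists_isAffineOpen_mem_and_subset (X := X) (x := x) (U := ⊤) trivial
    exact ⟨⟨V, hV⟩, hxV⟩
  choose V hV using hex
  obtain ⟨t, ht⟩ := isCompact_univ.elim_finite_subcover (fun x : X => ((V x).1 : Set X))
    (fun x => (V x).1.isOpen) (fun x _ => Set.mem_iUnion.mpr ⟨x, hV x⟩)
  have hn : ∀ x : X, ∃ m, nilradical Γ(X, (V x).1) ^ m = ⊥ := fun x =>
    haveI : IsNoetherianRing Γ(X, (V x).1) := IsLocallyNoetherian.component_noetherian (V x)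
    IsNoetherianRing.isNilpotent_nilradical _
  choose m hm using hn
  refine ⟨t.sup m, fun U z hz => ?_⟩
  let J := Σ x : t, {r : Γ(X, (V x).1) // X.basicOpen r ≤ U}
  refine X.sheaf.eq_of_locally_eq' (fun r : J => X.basicOpen r.2.1) U (fun r => homOfLE r.2.2) ?_ _ _ ?_
  · intro y hy
    obtain ⟨x, hx, hyx⟩ := Set.mem_iUnion₂.mp (ht (Set.mem_univ y))
    obtain ⟨r, hr, hyr⟩ := (V x).2.exists_basicOpen_le ⟨y, hy⟩ hyx
    exact Opens.mem_iSup.mpr ⟨⟨⟨x, hx⟩, r, hr⟩, hyr⟩
  · rintro ⟨⟨x, hx⟩, r, hr⟩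
    let w := X.presheaf.map (homOfLE hr).op z
    change X.presheaf.map (homOfLE hr).op (z ^ t.sup m) = X.presheaf.map _ 0
    rw [map_pow, map_zero]
    letI := (X.presheaf.map (homOfLE (X.basicOpen_le r)).op).hom.toAlgebra
    haveI : IsLocalization.Away r Γ(X, X.basicOpen r) := (V x).2.isLocalization_basicOpen r
    have hw : (redι X).app (X.basicOpen r) w = 0 := by
      refine (ConcreteCategory.congr_hom ((redι X).naturality (homOfLE hr).op) z).trans ?_
      change _ = (0 : _)
      rw [CommRingCat.comp_apply, hz, map_zero]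
    have hnil : IsNilpotent w := by
      have h : w ∈ RingHom.ker ((redι X).app (X.basicOpen r)).hom := hw
      rw [Scheme.IdealSheafData.ker_subschemeι_app X.nilradical ⟨_, (V x).2.basicOpen r⟩] at h
      simpa [Scheme.nilradical, Ideal.radical, IsNilpotent] using h
    obtain ⟨⟨c, ⟨_, k, rfl⟩⟩, hc⟩ := IsLocalization.surj (Submonoid.powers r) w
    obtain ⟨n, hn⟩ := hnil
    have hc0 : algebraMap Γ(X, (V x).1) Γ(X, X.basicOpen r) (c ^ n) = 0 := by
      rw [map_pow, ← hc, mul_pow, hn, zero_mul]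
    obtain ⟨⟨_, l, rfl⟩, hl⟩ := (IsLocalization.map_eq_zero_iff (Submonoid.powers r) _ _).mp hc0
    have hc1 : r ^ l * c ∈ nilradical Γ(X, (V x).1) := mem_nilradical.mpr ⟨n + 1, by
      rw [mul_pow, pow_succ' c, ← mul_assoc, mul_comm ((r ^ l) ^ (n + 1)) c, mul_assoc, pow_succ (r ^ l), mul_assoc,
        show r ^ l * c ^ n = 0 from hl, mul_zero, mul_zero]⟩
    have h2 := Ideal.pow_mem_pow hc1 (m x)
    rw [hm x, Ideal.mem_bot] at h2
    have h3 := congrArg (algebraMap Γ(X, (V x).1) Γ(X, X.basicOpen r)) h2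
    rw [map_pow, map_mul, ← hc, map_zero] at h3
    have hu : IsUnit (algebraMap Γ(X, (V x).1) Γ(X, X.basicOpen r) (r ^ l) *
        algebraMap Γ(X, (V x).1) Γ(X, X.basicOpen r) (r ^ k)) :=
      (IsLocalization.map_units _ (⟨_, l, rfl⟩ : Submonoid.powers r)).mul
        (IsLocalization.map_units _ (⟨_, k, rfl⟩ : Submonoid.powers r))
    rw [mul_comm w, ← mul_assoc, mul_pow, (hu.pow (m x)).mul_right_eq_zero] at h3
    exact pow_eq_zero_of_le (Finset.le_sup hx) h3

variable {X}

/-- `t` is the `q`-th power of every local lift of `s` -/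
def IsPowLift (q : ℕ) (U : X.Opens) (s : Γ(X.nilradical.subscheme, redι X ⁻¹ᵁ U)) (t : Γ(X, U)) : Prop :=
  ∀ (W : X.Opens) (i : W ⟶ U) (a : Γ(X, W)),
    (redι X).app W a = X.nilradical.subscheme.presheaf.map ((Opens.map (redι X).base).map i).op s →
      X.presheaf.map i.op t = a ^ q

theorem exists_lift {U : X.Opens} (s : Γ(X.nilradical.subscheme, redι X ⁻¹ᵁ U)) {V : X.Opens} (hV : IsAffineOpen V)
    (i : V ⟶ U) : ∃ a, (redι X).app V a = X.nilradical.subscheme.presheaf.map ((Opens.map (redι X).base).map i).op s :=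
  Scheme.IdealSheafData.subschemeι_app_surjective X.nilradical ⟨V, hV⟩ _

theorem IsPowLift.unique {q : ℕ} {U : X.Opens} {s : Γ(X.nilradical.subscheme, redι X ⁻¹ᵁ U)} {t t' : Γ(X, U)}
    (h : IsPowLift q U s t) (h' : IsPowLift q U s t') : t = t' := by
  refine X.sheaf.eq_of_locally_eq' (fun V : {V : X.Opens // IsAffineOpen V ∧ V ≤ U} => V.1) U
    (fun V => homOfLE V.2.2) (fun y hy => ?_) _ _ fun V => ?_
  · obtain ⟨V, hV, hyV, hVU⟩ := exists_isAffineOpen_mem_and_subset (X := X) (x := y) (U := U) hy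
    exact Opens.mem_iSup.mpr ⟨⟨V, hV, hVU⟩, hyV⟩
  · obtain ⟨a, ha⟩ := exists_lift s V.2.1 (homOfLE V.2.2)
    exact (h _ _ a ha).trans (h' _ _ a ha).symm

theorem IsPowLift.res {q : ℕ} {U U' : X.Opens} (i : U' ⟶ U) {s : Γ(X.nilradical.subscheme, redι X ⁻¹ᵁ U)}
    {t : Γ(X, U)} (h : IsPowLift q U s t) :
    IsPowLift q U' (X.nilradical.subscheme.presheaf.map ((Opens.map (redι X).base).map i).op s)
      (X.presheaf.map i.op t) := by
  intro W j a ha
  rw [← ConcreteCategory.comp_apply, ← Functor.map_comp] at ha ⊢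
  exact h W (j ≫ i) a ha

theorem exists_isPowLift {p : ℕ} (hp : p.Prime) (hpX : (p : Γ(X, ⊤)) = 0) (e : ℕ)
    (he : ∀ (U : X.Opens) (z : Γ(X, U)), (redι X).app U z = 0 → z ^ p ^ e = 0)
    (U : X.Opens) (s : Γ(X.nilradical.subscheme, redι X ⁻¹ᵁ U)) : ∃ t, IsPowLift (p ^ e) U s t := by
  have key : ∀ {W : X.Opens} {a b : Γ(X, W)}, (redι X).app W a = (redι X).app W b → a ^ p ^ e = b ^ p ^ e :=
    fun {W a b} h => pow_eq_pow_of_pow_sub_eq_zero hp
      (by rw [← map_natCast (X.presheaf.map (homOfLE (le_top (a := W))).op).hom, hpX, map_zero]) e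
      (he W _ (by rw [map_sub, h, sub_self]))
  let J := {V : X.Opens // IsAffineOpen V ∧ V ≤ U}
  choose a ha using fun V : J => exists_lift s V.2.1 (homOfLE V.2.2)
  have hnat : ∀ {W W' : X.Opens} (i : W' ⟶ W) (c : Γ(X, W)), (redι X).app W' (X.presheaf.map i.op c) =
      X.nilradical.subscheme.presheaf.map ((Opens.map (redι X).base).map i).op ((redι X).app W c) :=
    fun i c => ConcreteCategory.congr_hom ((redι X).naturality i.op) c
  have hc : TopCat.Presheaf.IsCompatible X.sheaf.obj (fun V : J => V.1) (fun V => a V ^ p ^ e) := fun V V' => by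
    change X.presheaf.map _ (a V ^ p ^ e) = X.presheaf.map _ (a V' ^ p ^ e)
    rw [map_pow, map_pow]
    refine key ?_
    rw [hnat, hnat, ha V, ha V', ← ConcreteCategory.comp_apply, ← ConcreteCategory.comp_apply, ← Functor.map_comp,
      ← Functor.map_comp]
    rfl
  obtain ⟨t, ht, -⟩ := X.sheaf.existsUnique_gluing' (fun V : J => V.1) U (fun V => homOfLE V.2.2)
    (fun y hy => by
      obtain ⟨V, hV, hyV, hVU⟩ := exists_isAffineOpen_mem_and_subset (X := X) (x := y) (U := U) hy
      exact Opens.mem_iSup.mpr ⟨⟨V, hV, hVU⟩, hyV⟩) _ hc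
  refine ⟨t, fun W i b hb => ?_⟩
  refine X.sheaf.eq_of_locally_eq' (fun V : {V : X.Opens // IsAffineOpen V ∧ V ≤ W} => V.1) W
    (fun V => homOfLE V.2.2) (fun y hy => ?_) _ _ fun V => ?_
  · obtain ⟨V, hV, hyV, hVW⟩ := exists_isAffineOpen_mem_and_subset (X := X) (x := y) (U := W) hy
    exact Opens.mem_iSup.mpr ⟨⟨V, hV, hVW⟩, hyV⟩
  · change X.presheaf.map _ (X.presheaf.map i.op t) = X.presheaf.map _ (b ^ p ^ e)
    rw [← ConcreteCategory.comp_apply, ← Functor.map_comp, map_pow]
    refine (ht ⟨V.1, V.2.1, V.2.2.trans i.le⟩).trans (key ?_)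
    rw [ha, hnat, hb, ← ConcreteCategory.comp_apply, ← Functor.map_comp]
    rfl

theorem hasNorm_reduction [IsNoetherian X] {p : ℕ} (hp : p.Prime) (hpX : (p : Γ(X, ⊤)) = 0) :
    ∃ e : ℕ, 0 < e ∧ Nrm.HasNorm (redι X) (p ^ e) := by
  obtain ⟨m, hm⟩ := exists_bound X
  refine ⟨m + 1, Nat.succ_pos m, ?_⟩
  have he : ∀ (U : X.Opens) (z : Γ(X, U)), (redι X).app U z = 0 → z ^ p ^ (m + 1) = 0 := fun U z hz =>
    pow_eq_zero_of_le ((Nat.le_succ m).trans (Nat.lt_pow_self hp.one_lt).le) (hm U z hz)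
  choose N hN using exists_isPowLift hp hpX (m + 1) he
  exact ⟨{
    one_le := Nat.one_le_pow _ _ hp.pos
    norm := fun U =>
      { toFun := N U
        map_one' := IsPowLift.unique (hN U 1) fun W i a ha => by
          rw [map_one] at ha ⊢
          refine (one_pow (p ^ (m + 1))).symm.trans ?_
          exact pow_eq_pow_of_pow_sub_eq_zero hp
            (by rw [← map_natCast (X.presheaf.map (homOfLE (le_top (a := W))).op).hom, hpX, map_zero]) _
            (he W _ (by rw [map_sub, map_one, ha, sub_self]))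
        map_mul' := fun s s' => by
          refine X.sheaf.eq_of_locally_eq' (fun V : {V : X.Opens // IsAffineOpen V ∧ V ≤ U} => V.1) U
            (fun V => homOfLE V.2.2) (fun y hy => ?_) _ _ fun V => ?_
          · obtain ⟨V, hV, hyV, hVU⟩ := exists_isAffineOpen_mem_and_subset (X := X) (x := y) (U := U) hy
            exact Opens.mem_iSup.mpr ⟨⟨V, hV, hVU⟩, hyV⟩
          · obtain ⟨a, ha⟩ := exists_lift s V.2.1 (homOfLE V.2.2)
            obtain ⟨a', ha'⟩ := exists_lift s' V.2.1 (homOfLE V.2.2)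
            refine (hN U (s * s') _ (homOfLE V.2.2) (a * a') (by rw [map_mul, map_mul, ha, ha'])).trans ?_
            change _ = X.presheaf.map _ (N U s * N U s')
            rw [map_mul, hN U s _ _ a ha, hN U s' _ _ a' ha', mul_pow] }
    norm_res := fun {U V} i s => IsPowLift.unique ((hN U s).res i) (hN V _)
    norm_app := fun U g => by
      have h := hN U ((redι X).app U g) U (𝟙 U) g (by simp)
      simpa using h
    norm_mem := fun U s x hx hs => by
      rw [IsLocalRing.mem_maximalIdeal] at hs ⊢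
      intro hu
      obtain ⟨V, hV, hxV, hVU'⟩ := exists_isAffineOpen_mem_and_subset (X := X) (U := U) hx
      have hVU : V ≤ U := hVU'
      obtain ⟨a, ha⟩ := exists_lift s hV (homOfLE hVU)
      have h := hN U s V (homOfLE hVU) a ha
      replace h := congrArg (X.presheaf.germ V (redι X x) hxV).hom h
      rw [TopCat.Presheaf.germ_res_apply, map_pow] at h
      have ha1 : IsUnit (X.presheaf.germ V (redι X x) hxV a) :=
        (isUnit_pow_iff (pow_ne_zero _ hp.ne_zero)).mp (h ▸ hu)
      have ha2 := ha1.map ((redι X).stalkMap x).hom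
      rw [← ConcreteCategory.comp_apply, Scheme.Hom.germ_stalkMap, ConcreteCategory.comp_apply, ha,
        TopCat.Presheaf.germ_res_apply] at ha2
      exact hs ha2 }⟩

end Groth.Agent.SDiv28.Norm
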